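import Groth.Agent.LA18.TorSymm
import Groth.Agent.FlatMor68.PerfKoszul
import Groth.Agent.Koszul19.BaseChange
import Groth.Agent.LA18.TorFC
import Groth.Agent.TorBal94.FirstVariable
import Groth.Agent.Div89.KoszulH1
import Groth.Agent.CAlg1.H1QReg
import Groth.Agent.EGA4Alg4.QuasiReg

/-! `Tor` of the powers of a Koszul-regular ideal. -/

set_option autoImplicit false
set_option backward.isDefEq.respectTransparency.types false
set_option linter.style.haveILetI false

universe u

open CategoryTheory CategoryTheory.Limits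
open scoped TensorProduct

attribute [local instance] HasDerivedCategory.standard

namespace Groth.Agent.KosPow31

open DR39 Koszul19

variable {A : Type u} [CommRing A]

abbrev TorZero (M : Type u) [AddCommGroup M] [Module A M] (S : ModuleCat.{u} A) (i : ℕ) : Prop :=
  IsZero (((Tor (ModuleCat.{u} A) i).obj (ModuleCat.of A M)).obj S)

/-- The Koszul complex of a weakly regular sequence is the quotient in the derived category. -/
theorem koszul_iso_quotient (l : List A) (hl : KR l) :
    Nonempty ((QA A).obj (Koszul.koszul A l) ≅ Dual.inD A (A ⧸ Ideal.ofList l)) := by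
  let X := (QA A).obj (Koszul.koszul A l)
  have hz : ∀ i : ℤ, i ≠ 0 → IsZero ((HF A i).obj X) := fun i hi =>
    ((isZero_homology_iff_ex _ i).2 (hl i hi)).of_iso (HQIso _ i)
  haveI : X.IsGE 0 := (DerivedCategory.isGE_iff X 0).2 fun i hi => hz i (by omega)
  haveI : X.IsLE 0 := (DerivedCategory.isLE_iff X 0).2 fun i hi => hz i (by omega)
  obtain ⟨Y, ⟨e⟩⟩ := DerivedCategory.exists_iso_singleFunctor_obj_of_isGE_of_isLE X 0
  let eY : Y ≅ ModuleCat.of A (A ⧸ Ideal.ofList l) :=
    ((DerivedCategory.singleFunctorCompHomologyFunctorIso (ModuleCat.{u} A) 0).app Y).symm ≪≫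
      ((HF A 0).mapIso e).symm ≪≫ HQIso _ 0 ≪≫ homologyIsoHc _ (-1) 0 1 (by omega) (by omega) ≪≫
      (hcZero l).toModuleIso
  exact ⟨e ≪≫ (DerivedCategory.singleFunctor (ModuleCat.{u} A) 0).mapIso eY⟩

theorem projective_X (l : List A) (q : ℤ) :
    Module.Projective A ((Koszul.koszul A l).X q : Type u) := by
  induction l generalizing q with
  | nil =>
    by_cases h : q = 0
    · subst h
      exact Module.Projective.of_equiv nilZero.symm
    · haveI := subsingleton_nil (A := A) h
      infer_instance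
  | cons f l ih =>
    haveI := ih q
    haveI := ih (q + 1)
    exact Module.Projective.of_equiv ((consData f l).e q (q + 1) rfl).symm

theorem tor_quotient (l : List A) (hl : KR l) (B : Type u) [CommRing B] [Algebra A B]
    (hlB : KR (l.map (algebraMap A B))) (q : ℕ) :
    TorZero (A ⧸ Ideal.ofList l) (ModuleCat.of A B) (q + 1) := by
  refine LA18.isZero_tor_symm (q + 1) ?_
  obtain ⟨F, hFb, hFp, ⟨eF⟩, ⟨f⟩⟩ :=
    LA18.exists_tor_iso_tensorCx (ModuleCat.of A B) (ModuleCat.of A (A ⧸ Ideal.ofList l)) q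
  obtain ⟨eK⟩ := koszul_iso_quotient l hl
  obtain ⟨E, hEv, hE, ⟨eE⟩⟩ := DR39.exists_free_res (A := A) B
  have hKb : DRing.VanishesAbove (Koszul.koszul A l) 0 := fun i hi => by
    haveI := Koszul19.subsingleton_X l i (Or.inl hi)
    exact ModuleCat.isZero_of_subsingleton _
  have hKp : ∀ i, Module.Projective A ((Koszul.koszul A l).X i : Type u) := fun i => projective_X l i
  obtain ⟨b1⟩ := DR39.balance (M := ModuleCat.of A (A ⧸ Ideal.ofList l)) (N := ModuleCat.of A B)
    hKb hKp eK hEv (fun i => proj_of_FR (hE i)) eE (-((q + 1 : ℕ) : ℤ))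
  obtain ⟨b2⟩ := DR39.balance (M := ModuleCat.of A (A ⧸ Ideal.ofList l)) (N := ModuleCat.of A B)
    hFb hFp eF hEv (fun i => proj_of_FR (hE i)) eE (-((q + 1 : ℕ) : ℤ))
  refine IsZero.of_iso ?_ (f ≪≫ b2 ≪≫ b1.symm)
  set j : ℤ := -((q + 1 : ℕ) : ℤ)
  rw [Koszul19.isZero_homology_iff_ex, ex_iff_exact _ (j - 1) j (j + 1) (by omega) rfl]
  have h := (bcKoszul (B := B) l).exact_iff (j - 1) j (j + 1) (by omega) rfl |>.1 (hlB j (by omega))
  exact (Function.Exact.iff_of_ladder_addEquiv
    (e₁ := (TensorProduct.comm A B ((Koszul.koszul A l).X (j - 1) : Type u)).toAddEquiv)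
    (e₂ := (TensorProduct.comm A B ((Koszul.koszul A l).X j : Type u)).toAddEquiv)
    (e₃ := (TensorProduct.comm A B ((Koszul.koszul A l).X (j + 1) : Type u)).toAddEquiv)
    (f₁₂ := ((dd (Koszul.koszul A l) (j - 1) j).lTensor B).toAddMonoidHom)
    (f₂₃ := ((dd (Koszul.koszul A l) j (j + 1)).lTensor B).toAddMonoidHom)
    (g₁₂ := (dd (DRing.tensorCx (Koszul.koszul A l) (ModuleCat.of A B)) (j - 1) j).toAddMonoidHom)
    (g₂₃ := (dd (DRing.tensorCx (Koszul.koszul A l) (ModuleCat.of A B)) j (j + 1)).toAddMonoidHom)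
    (by
      refine AddMonoidHom.ext fun z => ?_
      induction z with
      | zero => simp only [map_zero]
      | add x y hx hy => simp only [map_add, hx, hy]
      | tmul b x => rfl)
    (by
      refine AddMonoidHom.ext fun z => ?_
      induction z with
      | zero => simp only [map_zero]
      | add x y hx hy => simp only [map_add, hx, hy]
      | tmul b x => rfl)).2 h

theorem tor_of_equiv {M N : Type u} [AddCommGroup M] [Module A M] [AddCommGroup N] [Module A N]
    (e : M ≃ₗ[A] N) {S : ModuleCat.{u} A} {i : ℕ} (h : TorZero M S i) : TorZero N S i :=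
  LA18.isZero_tor_congr_left e S i h

theorem tor_pi_fin (M : Type u) [AddCommGroup M] [Module A M] (S : ModuleCat.{u} A) (q : ℕ)
    (h : TorZero M S (q + 1)) : ∀ k : ℕ, TorZero (Fin k → M) S (q + 1)
  | 0 => TorBal94.isZero_tor_of_flat_left _ S q
  | k + 1 => by
    refine TorBal94.isZero_tor_middle (LinearMap.single A (fun _ : Fin (k + 1) => M) 0)
      (LinearMap.funLeft A M Fin.succ) (LinearMap.ker_eq_bot.1 (LinearMap.ker_single _ _ _)) ?_ ?_ S (q + 1) h (tor_pi_fin M S q h k)
    · intro v
      constructor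
      · intro hv
        refine ⟨v 0, funext fun i => ?_⟩
        refine Fin.cases ?_ (fun i => ?_) i
        · simp
        · have := congrFun hv i
          simpa [Fin.succ_ne_zero] using this.symm
      · rintro ⟨x, rfl⟩
        funext i
        simp [Fin.succ_ne_zero]
    · exact LinearMap.funLeft_surjective_of_injective A M _ (Fin.succ_injective k)

theorem tor_pi (ι : Type) [Fintype ι] (M : Type u) [AddCommGroup M] [Module A M] (S : ModuleCat.{u} A)
    (q : ℕ) (h : TorZero M S (q + 1)) : TorZero (ι → M) S (q + 1) :=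
  tor_of_equiv (LinearEquiv.funCongrLeft A M (Fintype.equivFin ι)) (tor_pi_fin M S q h _)

/-- The graded pieces of a quasi-regular sequence are free. -/
theorem exists_equiv_piece {r : ℕ} (f : Fin r → A) (hf : CAlgX.IsQuasiRegular f) (n : ℕ) :
    ∃ (ι : Type) (_ : Fintype ι), Nonempty ((ι → A ⧸ Ideal.span (Set.range f)) ≃ₗ[A]
      (↥(Ideal.span (Set.range f) ^ n) ⧸ Submodule.comap (Ideal.span (Set.range f) ^ n).subtype
        (Ideal.span (Set.range f) ^ (n + 1)))) := by
  classical
  set J := Ideal.span (Set.range f)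
  let D := (Finset.univ : Finset (Fin r)).finsuppAntidiag n
  refine ⟨↥D, inferInstance, ?_⟩
  let mk : (↥D → A) →ₗ[A] MvPolynomial (Fin r) A := ∑ d : ↥D, (MvPolynomial.monomial d.1).comp (LinearMap.proj d)
  have hmk : ∀ c, mk c = ∑ d : ↥D, MvPolynomial.monomial d.1 (c d) := fun c => by simp [mk]
  have hdeg : ∀ d : ↥D, d.1.degree = n := fun d => by
    rw [Finsupp.degree_eq_sum]; exact (Finset.mem_finsuppAntidiag.1 d.2).1
  have hhom : ∀ c, (mk c).IsHomogeneous n := fun c => by
    rw [hmk]; exact MvPolynomial.IsHomogeneous.sum _ _ _ fun d _ => MvPolynomial.isHomogeneous_monomial _ (hdeg d)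
  have hcoeff : ∀ c (d : ↥D), (mk c).coeff d.1 = c d := fun c d => by
    rw [hmk, MvPolynomial.coeff_sum, Finset.sum_eq_single d]
    · simp
    · intro b _ hb
      simp [Subtype.coe_injective.ne hb]
    · simp
  let φ : (↥D → A) →ₗ[A] ↥(J ^ n) :=
    { toFun := fun c => ⟨MvPolynomial.eval f (mk c), EGA4Alg4.eval_mem_span_pow f (hhom c)⟩
      map_add' := fun a b => Subtype.ext (by simp)
      map_smul' := fun a b => Subtype.ext (by simp [MvPolynomial.smul_eq_C_mul]) }
  let ψ := (Submodule.mkQ (Submodule.comap (J ^ n).subtype (J ^ (n + 1)))).comp φ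
  have hψ : Function.Surjective ψ := by
    intro y
    obtain ⟨⟨x, hx⟩, rfl⟩ := Submodule.mkQ_surjective _ y
    obtain ⟨P, hP, rfl⟩ := (Ideal.mem_span_pow_iff_exists_isHomogeneous _ _).mp hx
    refine ⟨fun d => P.coeff d.1, congrArg (Submodule.mkQ _) (Subtype.ext ?_)⟩
    show MvPolynomial.eval f (mk _) = MvPolynomial.eval f P
    congr 1
    ext d
    by_cases hd : d ∈ D
    · exact hcoeff _ ⟨d, hd⟩
    · have hd' : d.degree ≠ n := fun h => hd (Finset.mem_finsuppAntidiag.2 ⟨(Finsupp.degree_eq_sum d).symm.trans h, Finset.subset_univ _⟩)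
      rw [(hhom _).coeff_eq_zero hd', hP.coeff_eq_zero hd']
  have hker : LinearMap.ker ψ = LinearMap.ker ((Submodule.mkQ (J : Submodule A A)).compLeft ↥D) := by
    ext c
    simp only [LinearMap.mem_ker, ψ, LinearMap.comp_apply, Submodule.mkQ_apply, Submodule.Quotient.mk_eq_zero,
      Submodule.mem_comap, Submodule.subtype_apply, funext_iff, LinearMap.compLeft_apply, Function.comp_apply, Pi.zero_apply]
    constructor
    · intro h d
      rw [← hcoeff c d]
      exact hf n (mk c) (hhom c) h d.1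
    · intro h
      rw [pow_succ']
      refine EGA4Alg4.eval_mem_of_coeff_mem f (hhom c) J fun d => ?_
      by_cases hd : d ∈ D
      · rw [hcoeff c ⟨d, hd⟩]; exact h _
      · have hd' : d.degree ≠ n := fun h => hd (Finset.mem_finsuppAntidiag.2 ⟨(Finsupp.degree_eq_sum d).symm.trans h, Finset.subset_univ _⟩)
        rw [(hhom c).coeff_eq_zero hd']
        exact J.zero_mem
  have hsurj : Function.Surjective ((Submodule.mkQ (J : Submodule A A)).compLeft ↥D) := fun v =>
    ⟨fun d => (Submodule.mkQ_surjective _ (v d)).choose, funext fun d => (Submodule.mkQ_surjective _ (v d)).choose_spec⟩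
  exact ⟨(LinearMap.quotKerEquivOfSurjective _ hsurj).symm.trans
    ((Submodule.quotEquivOfEq _ _ hker.symm).trans (LinearMap.quotKerEquivOfSurjective ψ hψ))⟩

variable {r : ℕ} (f : Fin r → A) (hf : CAlgX.IsQuasiRegular f) (S : ModuleCat.{u} A)
  (h0 : ∀ q, TorZero (A ⧸ Ideal.span (Set.range f)) S (q + 1))

include hf h0

theorem tor_piece (n q : ℕ) : TorZero (↥(Ideal.span (Set.range f) ^ n) ⧸
    Submodule.comap (Ideal.span (Set.range f) ^ n).subtype (Ideal.span (Set.range f) ^ (n + 1))) S (q + 1) := by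
  obtain ⟨ι, _, ⟨e⟩⟩ := exists_equiv_piece f hf n
  exact tor_of_equiv e (tor_pi ι _ S q (h0 q))

theorem tor_quot_pow : ∀ (n q : ℕ), TorZero (A ⧸ Ideal.span (Set.range f) ^ n) S (q + 1)
  | 0, q => by
    haveI : Subsingleton (A ⧸ Ideal.span (Set.range f) ^ 0) :=
      Ideal.Quotient.subsingleton_iff.2 (by rw [pow_zero, Ideal.one_eq_top])
    exact TorBal94.isZero_tor_of_flat_left _ S q
  | n + 1, q => by
    set J := Ideal.span (Set.range f)
    refine TorBal94.isZero_tor_middle
      (Submodule.mapQ (Submodule.comap (J ^ n).subtype (J ^ (n + 1))) (J ^ (n + 1) : Submodule A A) (J ^ n).subtype le_rfl)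
      (Submodule.factor (Ideal.pow_le_pow_right n.le_succ : (J ^ (n + 1) : Submodule A A) ≤ J ^ n)) ?_ ?_ ?_ S (q + 1)
      (tor_piece f hf S h0 n q) (tor_quot_pow n q)
    · rw [injective_iff_map_eq_zero]
      intro y hy
      obtain ⟨y, rfl⟩ := Submodule.mkQ_surjective _ y
      rw [Submodule.mkQ_apply, Submodule.mapQ_apply, Submodule.Quotient.mk_eq_zero] at hy
      exact (Submodule.Quotient.mk_eq_zero _).2 hy
    · intro y
      obtain ⟨y, rfl⟩ := Submodule.mkQ_surjective _ y
      constructor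
      · intro h
        exact ⟨Submodule.mkQ _ ⟨y, (Submodule.Quotient.mk_eq_zero _).1 h⟩, rfl⟩
      · rintro ⟨z, hz⟩
        obtain ⟨z, rfl⟩ := Submodule.mkQ_surjective _ z
        rw [← hz]
        exact (Submodule.Quotient.mk_eq_zero _).2 z.2
    · intro y
      obtain ⟨y, rfl⟩ := Submodule.mkQ_surjective _ y
      exact ⟨Submodule.mkQ _ y, rfl⟩

theorem tor_pow (n q : ℕ) : TorZero ↥(Ideal.span (Set.range f) ^ n) S (q + 1) := by
  set I := Ideal.span (Set.range f) ^ n
  exact TorBal94.isZero_tor_left (I : Submodule A A).subtype (I : Submodule A A).mkQ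
    (Submodule.injective_subtype _) (LinearMap.exact_iff.2 (by rw [Submodule.ker_mkQ, Submodule.range_subtype]))
    (Submodule.mkQ_surjective _) S (q + 1) (TorBal94.isZero_tor_of_flat_left A S q) (tor_quot_pow f hf S h0 n (q + 1))

end Groth.Agent.KosPow31
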